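import Cfsg.Agent.ZJ.ZJ
import Cfsg.Agent.RealZJ.Witness

/-!
Glauberman's `ZJ` argument with stability required only for the elements of the large abelian subgroups.
-/

set_option autoImplicit false

namespace CfsgLib.RealZJ

open scoped commutatorElement Pointwise
open CfsgLib.ZJ

variable {G : Type*} [Group G] {p : ℕ} {el : Bool}

/-- Stability on normal `p`-subgroups for the elements of the large abelian subgroups of `D`. -/
def StableFor (p : ℕ) (el : Bool) (D : Subgroup G) : Prop :=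
  ∀ (B : Subgroup G) [B.Normal], IsPGroup p B → ∀ A ∈ maxGood p el D, ∀ a ∈ A,
    ⁅⁅B, Subgroup.zpowers a⁆, Subgroup.zpowers a⁆ = ⊥ →
      (QuotientGroup.mk a : G ⧸ Subgroup.centralizer (B : Set G)) ∈
        Cfsg.pCore p (G ⧸ Subgroup.centralizer (B : Set G))

/-- `Z(J(D))` lies in `O_p(G)`. -/
theorem W_le_pCore_of [Finite G] [Fact p.Prime]
    (hc : Subgroup.centralizer (Cfsg.pCore p G : Set G) ≤ Cfsg.pCore p G)
    (P : Sylow p G)
    {D : Subgroup G} (hst : StableFor p el D) (hPD : (P : Subgroup G) ≤ Subgroup.normalizer (D : Set G)) :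
    W p el D ≤ Cfsg.pCore p G := by
  intro z hz
  obtain ⟨A, hA⟩ := maxGood_nonempty p el D
  set K := Cfsg.pCore p G with hK
  haveI hKn : K.Normal := Cfsg.pCore_normal p G
  haveI : (Subgroup.centralizer (K : Set G)).Normal := Subgroup.normal_centralizer
  refine mem_of_normal_isPGroup_quotient (Subgroup.centralizer (K : Set G))
    ((CfsgLib.PCore.isPGroup_pCore p G).to_le hc)
    (hst K (CfsgLib.PCore.isPGroup_pCore p G) A hA z (W_le_maxGood hA hz) ?_)
  have h1 : ⁅K, Subgroup.zpowers z⁆ ≤ W p el D := by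
    refine Subgroup.commutator_le.2 fun k hk a ha => ?_
    have hkN := normalizer_le_normalizer_W (p := p) (el := el) D (hPD (CfsgLib.PCore.pCore_le_sylow P hk))
    have ha' : a ∈ W p el D := Subgroup.zpowers_le.2 hz ha
    rw [commutatorElement_def]
    exact (W p el D).mul_mem ((Subgroup.mem_normalizer_iff.1 hkN a).1 ha') ((W p el D).inv_mem ha')
  rw [Subgroup.commutator_eq_bot_iff_le_centralizer]
  exact fun x hx => Subgroup.mem_centralizer_iff.2 fun a ha => W_comm (Subgroup.zpowers_le.2 hz ha) (h1 hx)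

theorem W_inf_normal_of [Finite G] [hp : Fact p.Prime] (hp2 : p ≠ 2)
    (P : Sylow p G)
    {D : Subgroup G} (hst : StableFor p el D) (hDP : D ≤ (P : Subgroup G))
    (hD : ∀ x ∈ D, ∀ g : G, g * x * g⁻¹ ∈ (P : Subgroup G) → g * x * g⁻¹ ∈ D) :
    ∀ (n : ℕ) (B : Subgroup G), Nat.card B = n → B.Normal → IsPGroup p B → (B ⊓ W p el D).Normal := by
  intro n
  induction n using Nat.strong_induction_on with
  | _ n ih =>
  intro B hBn hBnorm hBp
  have hPD := le_normalizer_of_stronglyClosed hDP hD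
  set Z := W p el D with hZ
  have hPZ : (P : Subgroup G) ≤ Subgroup.normalizer (Z : Set G) :=
    hPD.trans (normalizer_le_normalizer_W D)
  by_cases hB0 : B = ⊥
  · subst hB0; rw [bot_inf_eq]; infer_instance
  by_cases hB1 : Subgroup.normalClosure ((B ⊓ Z : Subgroup G) : Set G) = B
  swap
  · set B1 := Subgroup.normalClosure ((B ⊓ Z : Subgroup G) : Set G) with hB1def
    have hle : B1 ≤ B := Subgroup.normalClosure_le_normal (fun x hx => hx.1)
    have hlt : Nat.card B1 < n := hBn ▸ lt_of_le_of_ne (Subgroup.card_le_of_le hle)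
      (fun e => hB1 (Subgroup.eq_of_le_of_card_ge hle e.ge))
    have heq : B1 ⊓ Z = B ⊓ Z := le_antisymm (inf_le_inf_right _ hle)
      (le_inf (fun x hx => Subgroup.subset_normalClosure hx) inf_le_right)
    rw [← heq]
    exact ih _ hlt B1 rfl Subgroup.normalClosure_normal (hBp.to_le hle)
  have hBP : B ≤ (P : Subgroup G) :=
    (CfsgLib.PCore.le_pCore hBnorm hBp).trans (CfsgLib.PCore.pCore_le_sylow P)
  have hB' : ⁅B, B⁆ ≤ B := Subgroup.commutator_le_self B
  haveI hM : (⁅B, B⁆ ⊓ Z).Normal := by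
    refine ih _ (hBn ▸ lt_of_le_of_ne (Subgroup.card_le_of_le hB') fun e => ?_) ⁅B, B⁆ rfl inferInstance
      (hBp.to_le hB')
    exact CfsgLib.PCore.commutator_ne_of_isPGroup hBp hBp Subgroup.le_normalizer hB0
      (Subgroup.eq_of_le_of_card_ge hB' e.ge)
  -- `B' ≤ Z`
  have hB'Z : ⁅B, B⁆ ≤ Z := by
    set π := QuotientGroup.mk' (⁅B, B⁆ ⊓ Z) with hπ
    haveI : (B.map π).Normal := hBnorm.map _ (QuotientGroup.mk'_surjective _)
    haveI : (Subgroup.centralizer (B.map π : Set (G ⧸ (⁅B, B⁆ ⊓ Z)))).Normal := Subgroup.normal_centralizer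
    have h1 : B ≤ (Subgroup.centralizer (B.map π : Set (G ⧸ (⁅B, B⁆ ⊓ Z)))).comap π := by
      calc B = Subgroup.normalClosure ((B ⊓ Z : Subgroup G) : Set G) := hB1.symm
        _ ≤ _ := by
          refine Subgroup.normalClosure_le_normal fun x hx => Subgroup.mem_centralizer_iff.2 ?_
          rintro _ ⟨y, hy, rfl⟩
          have h2 : ⁅y, x⁆ ∈ ⁅B, B⁆ ⊓ Z := by
            refine ⟨Subgroup.commutator_mem_commutator hy hx.1, ?_⟩
            rw [commutatorElement_def]
            exact Z.mul_mem ((Subgroup.mem_normalizer_iff.1 (hPZ (hBP hy)) x).1 hx.2) (Z.inv_mem hx.2)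
          rw [← commutatorElement_eq_one_iff_mul_comm, ← map_commutatorElement]
          exact (QuotientGroup.eq_one_iff _).2 h2
    refine Subgroup.commutator_le.2 fun x hx y hy => ?_
    have h3 := Subgroup.mem_centralizer_iff.1 (h1 hy) (π x) ⟨x, hx, rfl⟩
    have h4 : π ⁅x, y⁆ = 1 := by
      rw [map_commutatorElement, commutatorElement_eq_one_iff_mul_comm]; exact h3
    exact ((QuotientGroup.eq_one_iff _).1 h4).2
  have hB2 : ⁅⁅B, B⁆, B⁆ = ⊥ := by
    rw [Subgroup.commutator_comm, Subgroup.commutator_eq_bot_iff_le_centralizer]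
    haveI : (Subgroup.centralizer ((⁅B, B⁆ : Subgroup G) : Set G)).Normal := Subgroup.normal_centralizer
    calc B = Subgroup.normalClosure ((B ⊓ Z : Subgroup G) : Set G) := hB1.symm
      _ ≤ _ := Subgroup.normalClosure_le_normal fun x hx => Subgroup.mem_centralizer_iff.2
          fun y hy => W_comm (hB'Z hy) hx.2
  -- the core of the normalizer
  set L := (Subgroup.normalizer ((B ⊓ Z : Subgroup G) : Set G)).normalCore with hL
  have hLN : L ≤ Subgroup.normalizer ((B ⊓ Z : Subgroup G) : Set G) := Subgroup.normalCore_le _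
  obtain ⟨S, hS⟩ := CfsgLib.Transfer.exists_sylow_map_eq_inf P L
  set PL := (S : Subgroup L).map L.subtype with hPL
  have hfr : Subgroup.normalizer (PL : Set G) ⊔ L = ⊤ := Sylow.normalizer_sup_eq_top S
  have hPLdef : ∀ x : G, x ∈ PL ↔ x ∈ (P : Subgroup G) ∧ x ∈ L := by
    intro x
    rw [hS, Subgroup.mem_inf]
  have hND : Subgroup.normalizer (PL : Set G) ≤ Subgroup.normalizer ((D ⊓ L : Subgroup G) : Set G) :=
    fun g hg => Subgroup.mem_normalizer_fintype fun x hx => by
      have h1 := (hPLdef _).1 ((Subgroup.mem_normalizer_iff.1 hg x).1 ((hPLdef x).2 ⟨hDP hx.1, hx.2⟩))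
      exact ⟨hD x hx.1 g h1.1, h1.2⟩
  by_cases hJL : J p el D ≤ L
  · rw [← Subgroup.normalizer_eq_top_iff, eq_top_iff, ← hfr]
    refine sup_le ?_ hLN
    have hJ : J p el (D ⊓ L) = J p el D := J_eq_of_le (le_inf (J_le D) hJL) inf_le_left
    have hW : W p el (D ⊓ L) = Z := by rw [hZ]; unfold W; rw [hJ]
    refine le_trans ?_ inf_le_normalizer
    refine le_inf (le_top.trans_eq (Subgroup.normalizer_eq_top _).symm) ?_
    rw [← hW]
    exact hND.trans (normalizer_le_normalizer_W _)
  exfalso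
  set F := {A | A ∈ maxGood p el D ∧ ¬ A ≤ L} with hF
  have hFne : F.Nonempty := by
    by_contra h
    apply hJL
    refine sSup_le fun A hA => ?_
    by_contra hAL
    exact h ⟨A, hA, hAL⟩
  obtain ⟨A, ⟨hA, hAL⟩, hAmax⟩ := Set.exists_max_image F
    (fun A => Nat.card (A ⊓ B : Subgroup G)) (Set.toFinite _) hFne
  have hBA : B ≤ Subgroup.normalizer (A : Set G) := by
    by_contra hn
    obtain ⟨A', hA', hlt, hn'⟩ := exists_maxGood_gt hA (P.2.to_le (sup_le (hA.1.trans hDP) hBP))
      (le_top.trans_eq (Subgroup.normalizer_eq_top _).symm) (hBP.trans hPD)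
      (hB'Z.trans (W_le_maxGood hA)) hB2 (Or.inl hp2) hn
    have hA'L : A' ≤ L := by
      by_contra h
      exact hlt.ne (Subgroup.eq_of_le_of_card_ge hlt.le (hAmax A' ⟨hA', h⟩))
    have hA'DL : A' ≤ D ⊓ L := le_inf hA'.1 hA'L
    have hmem : A' ∈ maxGood p el (D ⊓ L) := by
      rw [maxGood_of_le hA' hA'DL inf_le_left]; exact ⟨hA', hA'DL⟩
    have hJle : J p el (D ⊓ L) ≤ J p el D := sSup_le fun C hC => by
      rw [maxGood_of_le hA' hA'DL inf_le_left] at hC
      exact maxGood_le_J hC.1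
    have hZX : Z ≤ W p el (D ⊓ L) := by
      rw [hZ, W, Subgroup.closure_le]
      rintro x ⟨hx, he⟩
      refine Subgroup.subset_closure ⟨⟨maxGood_le_J hmem ?_, Subgroup.centralizer_le hJle hx.2⟩, he⟩
      exact W_le_maxGood hA' (Subgroup.subset_closure ⟨hx, he⟩)
    have hBX : B ≤ W p el (D ⊓ L) := by
      calc B = Subgroup.normalClosure ((B ⊓ Z : Subgroup G) : Set G) := hB1.symm
        _ ≤ _ := by
          rw [Subgroup.normalClosure, Subgroup.closure_le]
          intro y hy
          obtain ⟨x, hx, hc⟩ := Group.mem_conjugatesOfSet_iff.1 hy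
          obtain ⟨g, rfl⟩ := isConj_iff.1 hc
          obtain ⟨m, hm, l, hl, rfl⟩ := Subgroup.mem_sup_of_normal_right.1
            (hfr.ge (Subgroup.mem_top g))
          have h1 : l * x * l⁻¹ ∈ B ⊓ Z := (Subgroup.mem_normalizer_iff.1 (hLN hl) x).1 hx
          have h2 := (Subgroup.mem_normalizer_iff.1
            (normalizer_le_normalizer_W (p := p) (el := el) _ (hND hm)) _).1 (hZX h1.2)
          rw [SetLike.mem_coe]
          simpa [mul_assoc] using h2
    exact hn ((hBX.trans (W_le_maxGood hmem)).trans hn')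
  apply hAL
  intro a ha
  haveI hCn : (Subgroup.centralizer (B : Set G)).Normal := Subgroup.normal_centralizer
  set π := QuotientGroup.mk' (Subgroup.centralizer (B : Set G)) with hπ
  have hq : π a ∈ Cfsg.pCore p (G ⧸ Subgroup.centralizer (B : Set G)) := by
    refine hst B hBp A hA a ha ?_
    have h1 : ⁅B, Subgroup.zpowers a⁆ ≤ A := by
      refine Subgroup.commutator_le.2 fun b hb c hc => ?_
      rw [commutatorElement_def]
      exact A.mul_mem ((Subgroup.mem_normalizer_iff.1 (hBA hb) c).1 (Subgroup.zpowers_le.2 ha hc))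
        (A.inv_mem (Subgroup.zpowers_le.2 ha hc))
    rw [Subgroup.commutator_eq_bot_iff_le_centralizer]
    exact fun x hx => Subgroup.mem_centralizer_iff.2
      fun c hc => good_commute hA.2.1 (Subgroup.zpowers_le.2 ha hc) (h1 hx)
  haveI := Cfsg.pCore_normal p (G ⧸ Subgroup.centralizer (B : Set G))
  refine (Subgroup.normal_le_normalCore
    (N := (Cfsg.pCore p (G ⧸ Subgroup.centralizer (B : Set G))).comap π)).2 ?_ hq
  intro y hy
  have h1 : π y ∈ (P : Subgroup G).map π := by
    rw [hπ, ← Sylow.coe_mapSurjective (QuotientGroup.mk'_surjective _) P]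
    exact CfsgLib.PCore.pCore_le_sylow _ hy
  obtain ⟨s, hs, hsy⟩ := h1
  have hc : y * s⁻¹ ∈ Subgroup.centralizer (B : Set G) := by
    rw [← QuotientGroup.eq_one_iff]
    show π (y * s⁻¹) = 1
    rw [map_mul, map_inv, hsy, mul_inv_cancel]
  have hcN : y * s⁻¹ ∈ Subgroup.normalizer ((B ⊓ Z : Subgroup G) : Set G) :=
    Subgroup.centralizer_le_normalizer _ (Subgroup.centralizer_le (fun x hx => hx.1) hc)
  have hsN : s ∈ Subgroup.normalizer ((B ⊓ Z : Subgroup G) : Set G) :=
    inf_le_normalizer ⟨(Subgroup.normalizer_eq_top (H := B)).ge (Subgroup.mem_top s), hPZ hs⟩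
  simpa using Subgroup.mul_mem _ hcN hsN

/-- **Glauberman's `ZJ` theorem.** -/
theorem W_normal_of [Finite G] [Fact p.Prime] (hp2 : p ≠ 2)
    (hc : Subgroup.centralizer (Cfsg.pCore p G : Set G) ≤ Cfsg.pCore p G)
    (P : Sylow p G)
    {D : Subgroup G} (hst : StableFor p el D) (hDP : D ≤ (P : Subgroup G))
    (hD : ∀ x ∈ D, ∀ g : G, g * x * g⁻¹ ∈ (P : Subgroup G) → g * x * g⁻¹ ∈ D) :
    (W p el D).Normal := by
  have h := W_inf_normal_of (el := el) hp2 P hst hDP hD _ (Cfsg.pCore p G) rfl (Cfsg.pCore_normal p G)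
    (CfsgLib.PCore.isPGroup_pCore p G)
  rwa [inf_eq_right.2 (W_le_pCore_of hc P hst (le_normalizer_of_stronglyClosed hDP hD))] at h

end CfsgLib.RealZJ
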